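import Groth.Agent.FunMor.K355.BCMap

/-!
# Affine base change for `f_* f^*`

For `h : X2 ⟶ X` affine and `f : X1 ⟶ X` with base change `f2 : X3 ⟶ X2`, `h1 : X3 ⟶ X1`:
`f_* f^* h_* N ≅ h_* f2_* f2^* N`, naturally in the quasi-coherent module `N` and compatibly with the units.
-/

set_option autoImplicit false
universe u
open CategoryTheory CategoryTheory.Limits AlgebraicGeometry

noncomputable section

namespace K357.ExBC

open Groth.Agent.CohqA.AffineBaseChange Groth.Agent.CohqA.PullbackUniv
open Groth.Agent.CohqA.PullbackSections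

variable {X X1 X2 X3 : Scheme.{u}} (f : X1 ⟶ X) (h : X2 ⟶ X) (f2 : X3 ⟶ X2) (h1 : X3 ⟶ X1)

/-- `f_* h1_* ≅ h_* f2_*` for a commutative square. -/
def pushSwap (w : f2 ≫ h = h1 ≫ f) :
    Scheme.Modules.pushforward h1 ⋙ Scheme.Modules.pushforward f ≅
      Scheme.Modules.pushforward f2 ⋙ Scheme.Modules.pushforward h :=
  Scheme.Modules.pushforwardComp h1 f ≪≫ (Scheme.Modules.pushforwardCongr w).symm ≪≫
    (Scheme.Modules.pushforwardComp f2 h).symm

/-- `f_* f^* h_* N ≅ h_* f2_* f2^* N` for quasi-coherent `N`. -/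
def bIso (sq : IsPullback f2 h1 h f) [IsAffineHom h] :
    (QCohCat.isQCoh X2).ι ⋙ Scheme.Modules.pushforward h ⋙ Scheme.Modules.pullback f ⋙
        Scheme.Modules.pushforward f ≅
      (QCohCat.isQCoh X2).ι ⋙ Scheme.Modules.pullback f2 ⋙ Scheme.Modules.pushforward f2 ⋙
        Scheme.Modules.pushforward h :=
  (Functor.isoWhiskerRight (K355.bcAffIso h f f2 h1 sq) (Scheme.Modules.pushforward f) :
    (QCohCat.isQCoh X2).ι ⋙ Scheme.Modules.pushforward h ⋙ Scheme.Modules.pullback f ⋙
        Scheme.Modules.pushforward f ≅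
      (QCohCat.isQCoh X2).ι ⋙ Scheme.Modules.pullback f2 ⋙ Scheme.Modules.pushforward h1 ⋙
        Scheme.Modules.pushforward f) ≪≫
  Functor.isoWhiskerLeft (QCohCat.isQCoh X2).ι (Functor.isoWhiskerLeft (Scheme.Modules.pullback f2)
    (pushSwap f h f2 h1 sq.w))

theorem bIso_hom_app (sq : IsPullback f2 h1 h f) [IsAffineHom h] (N : (QCohCat.isQCoh X2).FullSubcategory) :
    (bIso f h f2 h1 sq).hom.app N =
      (Scheme.Modules.pushforward f).map ((K355.bcMap h f f2 h1 sq.w).app N.obj) ≫
        (Scheme.Modules.pushforwardComp h1 f).hom.app ((Scheme.Modules.pullback f2).obj N.obj) ≫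
          (Scheme.Modules.pushforwardCongr sq.w).inv.app ((Scheme.Modules.pullback f2).obj N.obj) ≫
            (Scheme.Modules.pushforwardComp f2 h).inv.app ((Scheme.Modules.pullback f2).obj N.obj) :=
  rfl

theorem unit_bcMap (w : f2 ≫ h = h1 ≫ f) (N : X2.Modules) :
    (Scheme.Modules.pullbackPushforwardAdjunction f).unit.app ((Scheme.Modules.pushforward h).obj N) ≫
      (Scheme.Modules.pushforward f).map ((K355.bcMap h f f2 h1 w).app N) =
    pushSquare h f f2 h1 w (pbUnit f2 N) :=
  ((Scheme.Modules.pullbackPushforwardAdjunction f).homEquiv _ _).apply_symm_apply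
    (pushSquare h f f2 h1 w (pbUnit f2 N))

theorem unit_bIso (sq : IsPullback f2 h1 h f) [IsAffineHom h] (N : (QCohCat.isQCoh X2).FullSubcategory) :
    (Scheme.Modules.pullbackPushforwardAdjunction f).unit.app ((Scheme.Modules.pushforward h).obj N.obj) ≫
      (bIso f h f2 h1 sq).hom.app N =
    (Scheme.Modules.pushforward h).map
      ((Scheme.Modules.pullbackPushforwardAdjunction f2).unit.app N.obj) := by
  have e1 : (Scheme.Modules.pushforwardComp h1 f).inv.app ((Scheme.Modules.pullback f2).obj N.obj) ≫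
      (Scheme.Modules.pushforwardComp h1 f).hom.app ((Scheme.Modules.pullback f2).obj N.obj) = 𝟙 _ :=
    (Scheme.Modules.pushforwardComp h1 f).inv_hom_id_app _
  have e2 : (Scheme.Modules.pushforwardCongr sq.w).hom.app ((Scheme.Modules.pullback f2).obj N.obj) ≫
      (Scheme.Modules.pushforwardCongr sq.w).inv.app ((Scheme.Modules.pullback f2).obj N.obj) = 𝟙 _ :=
    (Scheme.Modules.pushforwardCongr sq.w).hom_inv_id_app _
  have e3 : (Scheme.Modules.pushforwardComp f2 h).hom.app ((Scheme.Modules.pullback f2).obj N.obj) ≫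
      (Scheme.Modules.pushforwardComp f2 h).inv.app ((Scheme.Modules.pullback f2).obj N.obj) = 𝟙 _ :=
    (Scheme.Modules.pushforwardComp f2 h).hom_inv_id_app _
  rw [bIso_hom_app, ← Category.assoc, unit_bcMap]
  unfold pushSquare
  simp only [Category.assoc]
  rw [reassoc_of% e1, reassoc_of% e2, e3]
  exact Category.comp_id _

/-- `f_* f^* h_* N ≅ h_* f2_* f2^* N` for quasi-coherent `N`, compatibly with the units. -/
theorem exists_bc (sq : IsPullback f2 h1 h f) [IsAffineHom h] :
    ∃ b : (QCohCat.isQCoh X2).ι ⋙ Scheme.Modules.pushforward h ⋙ Scheme.Modules.pullback f ⋙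
        Scheme.Modules.pushforward f ≅
      (QCohCat.isQCoh X2).ι ⋙ Scheme.Modules.pullback f2 ⋙ Scheme.Modules.pushforward f2 ⋙
        Scheme.Modules.pushforward h,
      ∀ N : (QCohCat.isQCoh X2).FullSubcategory, (Scheme.Modules.pullbackPushforwardAdjunction f).unit.app
          ((Scheme.Modules.pushforward h).obj N.obj) ≫ b.hom.app N =
        (Scheme.Modules.pushforward h).map
          ((Scheme.Modules.pullbackPushforwardAdjunction f2).unit.app N.obj) :=
  ⟨bIso f h f2 h1 sq, unit_bIso f h f2 h1 sq⟩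

end K357.ExBC
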